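import Groth.Agent.H26.LefAmple.OpenQuot
import Groth.Agent.H26.LefAmple.Global
import Groth.Agent.KZ.ClosedDev
import Groth.Agent.Nakai.Section
import Groth.Agent.SeesawX.Crit
import Groth.Agent.SeesawX.Basic
import Groth.Agent.PicClLib.Basic

/-!
# Formal trivializations
-/

noncomputable section

set_option autoImplicit false
set_option linter.style.haveILetI false
set_option backward.isDefEq.respectTransparency false
set_option backward.isDefEq.respectTransparency.types false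

universe u

open CategoryTheory CategoryTheory.Limits AlgebraicGeometry TopologicalSpace Opposite
open Groth.Agent.H23

namespace Groth.Agent.H26.LefPic

open Groth.Agent

variable {X : Scheme.{u}}

theorem toSub_eq_homEquiv {T : Scheme.{u}} (I : T.IdealSheafData) :
    ClSub.toSubscheme I = (Scheme.Modules.pullbackPushforwardAdjunction I.subschemeι).homEquiv _ _
      (LefFEt.uIso I.subschemeι).hom :=
  (LefFEt.homEquiv_pullUnit I.subschemeι).symm

/-- Sections of `O_U/J^(n+1)` lift to `O_U/J^(n+2)` when `H¹(X, I^(n+1)/I^(n+2)) = 0`. -/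
theorem exists_lift_scalar (𝓘 : X.IdealSheafData) (U : X.Opens) (hU : (𝓘.support : Set X) ⊆ (U : Set X)) (n : ℕ)
    (h1 : Subsingleton (Coh.HH X (kernel (Lef.quotMap (Lef.pow_succ_le 𝓘 n))) 1))
    (σ : Coh.structureModule (U : Scheme.{u}) ⟶ ClSub.quotMod ((𝓘.comap U.ι) ^ (n + 1))) :
    ∃ τ : Coh.structureModule (U : Scheme.{u}) ⟶ ClSub.quotMod ((𝓘.comap U.ι) ^ (n + 2)),
      τ ≫ Lef.quotMap (Lef.pow_succ_le (𝓘.comap U.ι) n) = σ := by
  haveI := fun k => LefAmple.isIso_kk 𝓘 U hU k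
  haveI := CurvePoint.epi_toSubscheme (𝓘 ^ (n + 1))
  haveI : Epi (Lef.quotMap (Lef.pow_succ_le 𝓘 n)) :=
    epi_of_epi_fac (LefFEt.toSub_quotMap (Lef.pow_succ_le 𝓘 n))
  have hS : (ShortComplex.mk _ _ (kernel.condition (Lef.quotMap (Lef.pow_succ_le 𝓘 n)))).ShortExact :=
    KZ.kerSeq_shortExact _
  obtain ⟨b, hb⟩ := LefAmple.exists_lift_of_shortExact hS h1
    (ClSub.unitToPush U.ι ≫ (Scheme.Modules.pushforward U.ι).map σ ≫ inv (LefAmple.kk 𝓘 U n))
  let adj := Scheme.Modules.pullbackPushforwardAdjunction U.ι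
  refine ⟨(LefFEt.uIso U.ι).inv ≫ (adj.homEquiv _ _).symm (b ≫ LefAmple.kk 𝓘 U (n + 1)), ?_⟩
  rw [Category.assoc, Iso.inv_comp_eq]
  apply (adj.homEquiv _ _).injective
  rw [Adjunction.homEquiv_naturality_right, Equiv.apply_symm_apply, Category.assoc, ← LefAmple.quotMap_kk,
    ← Category.assoc, hb, Category.assoc, Category.assoc, IsIso.inv_hom_id, Category.comp_id,
    Adjunction.homEquiv_naturality_right]
  exact congrArg (· ≫ _) (LefFEt.homEquiv_pullUnit U.ι).symm

/-- An adjoint of an epimorphism to a direct image under a closed immersion is an epimorphism. -/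
theorem epi_of_epi_homEquiv {W T : Scheme.{u}} (i : W ⟶ T) [IsClosedImmersion i] {D : T.Modules} {M : W.Modules}
    (f : (Scheme.Modules.pullback i).obj D ⟶ M)
    [Epi ((Scheme.Modules.pullbackPushforwardAdjunction i).homEquiv D M f)] : Epi f := by
  refine ⟨fun {N} g g' h => KZ.ClosedDev.push_map_injective i g g' ?_⟩
  rw [← cancel_epi ((Scheme.Modules.pullbackPushforwardAdjunction i).homEquiv D M f),
    ← Adjunction.homEquiv_naturality_right, ← Adjunction.homEquiv_naturality_right, h]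

/-- A trivialization gives a generator of `D/ID`. -/
theorem exists_gen {T : Scheme.{u}} (I : T.IdealSheafData) {D : T.Modules} (hD : PicF.IsInvertible D)
    (e : (Scheme.Modules.pullback I.subschemeι).obj D ≅ Coh.structureModule I.subscheme) :
    ∃ b : D ⟶ ClSub.quotMod I, Epi b := by
  refine ⟨(Scheme.Modules.pullbackPushforwardAdjunction I.subschemeι).homEquiv _ _ e.hom, ?_⟩
  rw [Adjunction.homEquiv_unit]
  haveI := Nakai.epi_unit I.subschemeι (QCoh.isQCoh_of_isFinLocFree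
    (fun x => (SeesawX.isFinLocFreeOfRank_one hD x).elim fun V h => ⟨V, 1, h⟩ : FlatMod.IsFinLocFree D))
  exact epi_comp _ _

/-- Any homomorphism into `O/I` factors through a generator. -/
theorem exists_factor {T : Scheme.{u}} (I : T.IdealSheafData) {D : T.Modules} (hD : PicF.IsInvertible D)
    (g : D ⟶ ClSub.quotMod I) [Epi g] (z : D ⟶ ClSub.quotMod I) :
    ∃ h : Coh.structureModule I.subscheme ⟶ Coh.structureModule I.subscheme,
      g ≫ (Scheme.Modules.pushforward I.subschemeι).map h = z := by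
  let adj := Scheme.Modules.pullbackPushforwardAdjunction I.subschemeι
  let g' := (adj.homEquiv D (Coh.structureModule I.subscheme)).symm g
  haveI : Epi ((Scheme.Modules.pullbackPushforwardAdjunction I.subschemeι).homEquiv D _ g') := by
    rw [show (adj.homEquiv D _ g') = g from Equiv.apply_symm_apply _ _]; infer_instance
  haveI : Epi g' := epi_of_epi_homEquiv I.subschemeι g'
  haveI : IsIso g' := SeesawX.isIso_of_epi_rank
    (SeesawX.isFinLocFreeOfRank_one (PicClLib.isInvertible_pullback _ hD))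
    (SeesawX.isFinLocFreeOfRank_one InvStalk.isInvertible_structureModule) g'
  refine ⟨inv g' ≫ (adj.homEquiv _ _).symm z, ?_⟩
  have hg : g = adj.homEquiv _ _ g' := (Equiv.apply_symm_apply _ _).symm
  rw [hg, ← Adjunction.homEquiv_naturality_right, IsIso.hom_inv_id_assoc, Equiv.apply_symm_apply]

/-- One step of lifting a formal homomorphism. -/
theorem exists_step (𝓘 : X.IdealSheafData) (U : X.Opens) (hU : (𝓘.support : Set X) ⊆ (U : Set X)) (n : ℕ)
    (h1 : Subsingleton (Coh.HH X (kernel (Lef.quotMap (Lef.pow_succ_le 𝓘 n))) 1))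
    {D : (U : Scheme.{u}).Modules} (hD : PicF.IsInvertible D)
    (e : (Scheme.Modules.pullback ((𝓘.comap U.ι) ^ (n + 2)).subschemeι).obj D ≅ Coh.structureModule _)
    (z : D ⟶ ClSub.quotMod ((𝓘.comap U.ι) ^ (n + 1))) :
    ∃ z' : D ⟶ ClSub.quotMod ((𝓘.comap U.ι) ^ (n + 2)),
      z' ≫ Lef.quotMap (Lef.pow_succ_le (𝓘.comap U.ι) n) = z := by
  generalize hJ : 𝓘.comap U.ι = J at *
  obtain ⟨b, hb⟩ := exists_gen (J ^ (n + 2)) hD e
  haveI := CurvePoint.epi_toSubscheme (J ^ (n + 1))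
  haveI := CurvePoint.epi_toSubscheme (J ^ (n + 2))
  haveI : Epi (Lef.quotMap (Lef.pow_succ_le J n)) := epi_of_epi_fac (LefFEt.toSub_quotMap (Lef.pow_succ_le J n))
  obtain ⟨h, hh⟩ := exists_factor (J ^ (n + 1)) hD (b ≫ Lef.quotMap (Lef.pow_succ_le J n)) z
  subst hJ
  obtain ⟨τ, hτ⟩ := exists_lift_scalar 𝓘 U hU n h1
    (ClSub.toSubscheme _ ≫ (Scheme.Modules.pushforward _).map h)
  let adj := Scheme.Modules.pullbackPushforwardAdjunction ((𝓘.comap U.ι) ^ (n + 2)).subschemeι
  let v := (LefFEt.uIso ((𝓘.comap U.ι) ^ (n + 2)).subschemeι).inv ≫ (adj.homEquiv _ _).symm τ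
  have hv : ClSub.toSubscheme ((𝓘.comap U.ι) ^ (n + 2)) ≫ (Scheme.Modules.pushforward _).map v = τ := by
    rw [toSub_eq_homEquiv, ← Adjunction.homEquiv_naturality_right]
    simp only [v, Iso.hom_inv_id_assoc]
    exact Equiv.apply_symm_apply _ _
  refine ⟨b ≫ (Scheme.Modules.pushforward _).map v, ?_⟩
  rw [← hh, Category.assoc, Category.assoc]
  congr 1
  rw [← cancel_epi (ClSub.toSubscheme ((𝓘.comap U.ι) ^ (n + 2))), ← Category.assoc, hv, hτ, ← Category.assoc,
    LefFEt.toSub_quotMap]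

/-- A formal trivialization from trivializations of every thickening. -/
theorem exists_formalGen (𝓘 : X.IdealSheafData) (U : X.Opens) (hU : (𝓘.support : Set X) ⊆ (U : Set X)) (p : ℕ)
    (hH1 : ∀ n : ℕ, p ≤ n → Subsingleton (Coh.HH X (kernel (Lef.quotMap (Lef.pow_succ_le 𝓘 n))) 1))
    {D : (U : Scheme.{u}).Modules} (hD : PicF.IsInvertible D)
    (e : ∀ m, Nonempty ((Scheme.Modules.pullback ((𝓘.comap U.ι) ^ (m + 1)).subschemeι).obj D ≅
      Coh.structureModule _)) :
    ∃ z : ∀ m, D ⟶ ClSub.quotMod ((𝓘.comap U.ι) ^ (m + 1)), Lef.IsFormalHom (𝓘.comap U.ι) D z ∧ Epi (z 0) := by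
  obtain ⟨b, hb⟩ := exists_gen ((𝓘.comap U.ι) ^ (p + 1)) hD (e p).some
  have step : ∀ d (z : D ⟶ ClSub.quotMod ((𝓘.comap U.ι) ^ (p + d + 1))),
      ∃ z' : D ⟶ ClSub.quotMod ((𝓘.comap U.ι) ^ (p + d + 2)),
        z' ≫ Lef.quotMap (Lef.pow_succ_le (𝓘.comap U.ι) (p + d)) = z := fun d z =>
    exists_step 𝓘 U hU (p + d) (hH1 _ (by omega)) hD (e (p + d + 1)).some z
  choose next hnext using step
  let w : ∀ d, D ⟶ ClSub.quotMod ((𝓘.comap U.ι) ^ (p + d + 1)) := fun d => Nat.rec b next d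
  have hw : ∀ d, w (d + 1) ≫ Lef.quotMap (Lef.pow_succ_le (𝓘.comap U.ι) (p + d)) = w d := fun d => hnext d (w d)
  have hle : ∀ {a c : ℕ}, a ≤ c → (𝓘.comap U.ι) ^ (c + 1) ≤ (𝓘.comap U.ι) ^ (a + 1) := fun {a c} hac => by
    obtain ⟨d, rfl⟩ := Nat.exists_eq_add_of_le hac
    rw [show a + d + 1 = a + 1 + d by omega, pow_add]
    exact mul_le_of_le_one_right' le_top
  refine ⟨fun m => w m ≫ Lef.quotMap (hle (Nat.le_add_left m p)), fun m => ?_, ?_⟩
  · haveI := CurvePoint.epi_toSubscheme ((𝓘.comap U.ι) ^ (p + m + 2))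
    show (w (m + 1) ≫ _) ≫ _ = w m ≫ _
    conv_rhs => rw [← hw m, Category.assoc]
    rw [Category.assoc]
    congr 1
    rw [← cancel_epi (ClSub.toSubscheme ((𝓘.comap U.ι) ^ (p + m + 2)))]
    simp only [← Category.assoc, LefFEt.toSub_quotMap]
  · haveI := hb
    haveI := CurvePoint.epi_toSubscheme ((𝓘.comap U.ι) ^ (0 + 1))
    haveI : Epi (Lef.quotMap (hle (Nat.le_add_left 0 p))) := epi_of_epi_fac (LefFEt.toSub_quotMap _)
    exact epi_comp b _

end Groth.Agent.H26.LefPic
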