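import Groth.Agent.H26.LefPic.Thick
import Groth.Agent.H26.LefPic.Lift
import Groth.Agent.DecShLib.Sect
import Groth.Agent.H23.InvStalk
import Groth.Agent.InvX.GenLocus
import Groth.Agent.H23.PicInv
import Groth.Agent.CurveCohLib.GlobGen
import Groth.Agent.Lib.AVKLExist
import Groth.Agent.BlowSep17.Basic

/-!
# `Pic U → Pic V(I^(n+1))` is injective under the Lefschetz condition
-/

noncomputable section

set_option autoImplicit false
set_option linter.style.haveILetI false
set_option backward.isDefEq.respectTransparency false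
set_option backward.isDefEq.respectTransparency.types false

universe u

open CategoryTheory CategoryTheory.Limits AlgebraicGeometry TopologicalSpace Opposite
open Groth.Agent.H23 Groth.Agent.AModX

namespace Groth.Agent.H26.LefPic

open Groth.Agent

variable {X : Scheme.{u}}

/-- A section generates where its stalk map is surjective. -/
theorem mem_genLocus_of_surjective {L : X.Modules} (hL : PicF.IsInvertible L) (t : Coh.structureModule X ⟶ L)
    {x : X} (hs : Function.Surjective ((DerSch.stalkFunctor X x).map t)) : x ∈ CohB1.genLocus L t := by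
  obtain ⟨U, hx, e, he⟩ := InvX.exists_frame hL x
  obtain ⟨g, hg⟩ := he.exists_coord le_rfl (AModX.res L (le_top : U ≤ ⊤) (InvX.one t))
  rw [AModX.res_self] at hg
  suffices h : x ∈ X.basicOpen g by
    rw [← InvX.genLocus_inf t he hg] at h
    exact h.1
  obtain ⟨r, hr⟩ := hs ((L.presheaf.germ U x hx).hom e)
  obtain ⟨W, hxW, a, rfl⟩ := (Coh.structureModule X).presheaf.germ_exist r
  have hr' : (L.presheaf.germ W x hxW).hom (t.app W a) = (L.presheaf.germ U x hx).hom e :=
    (DerSch.stalkFunctor_map_germ x t W hxW a).symm.trans hr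
  obtain ⟨W', hxW', i, j, h2⟩ := L.presheaf.germ_eq x hxW hx _ _ hr'
  have h3 : AModX.res L (leOfHom i) (t.app W a) = AModX.res L (leOfHom j) e := h2
  rw [InvX.app_eq_smul t (show Γ(X, W) from a), AModX.res_smul, AModX.res_res] at h3
  have h4 : AModX.res L (le_top : W' ≤ ⊤) (InvX.one t) = resR (leOfHom j) g • AModX.res L (leOfHom j) e := by
    have := congrArg (AModX.res L (leOfHom j)) hg
    rwa [AModX.res_res, AModX.res_smul] at this
  rw [h4, ← mul_smul] at h3
  have hu : resR (leOfHom i) (show Γ(X, W) from a) * resR (leOfHom j) g = 1 :=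
    he.coord_unique (leOfHom j) (by rw [one_smul]; exact h3)
  have hmem : x ∈ X.basicOpen (resR (leOfHom j) g) := by
    rw [X.basicOpen_of_isUnit (IsUnit.of_mul_eq_one_right _ hu)]
    exact hxW'
  rw [show resR (leOfHom j) g = X.presheaf.map (homOfLE (leOfHom j)).op g from rfl, Scheme.basicOpen_res] at hmem
  exact hmem.2

/-- A lift of a generator of `D/ID` generates along `V(I)`. -/
theorem stalk_surjective_of_epi_comp (I : X.IdealSheafData) {D : X.Modules} (φ : D ⟶ Coh.structureModule X)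
    [Epi (φ ≫ ClSub.toSubscheme I)] {x : X} (hx : x ∈ I.support) :
    Function.Surjective ((DerSch.stalkFunctor X x).map φ) := by
  let S := DerSch.stalkFunctor X x
  let τ := (S.map (ClSub.toSubscheme I)).hom
  have hsurj : Function.Surjective (S.map (φ ≫ ClSub.toSubscheme I)) :=
    (ModuleCat.epi_iff_surjective _).1 inferInstance
  rw [Functor.map_comp] at hsurj
  let e : ((S.obj (Coh.structureModule X)) : Type u) ≃ₗ[X.presheaf.stalk x] X.presheaf.stalk x :=
    (InvStalk.exists_stalk_equiv InvStalk.isInvertible_structureModule x).some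
  let R' : Submodule (X.presheaf.stalk x) (X.presheaf.stalk x) :=
    LinearMap.range (e.toLinearMap ∘ₗ (S.map φ).hom)
  have hR : R' = ⊤ := by
    by_contra hne
    have h1 : R' ≤ IsLocalRing.maximalIdeal (X.presheaf.stalk x) := IsLocalRing.le_maximalIdeal hne
    let K' : Submodule (X.presheaf.stalk x) (X.presheaf.stalk x) := LinearMap.ker (τ ∘ₗ e.symm.toLinearMap)
    have hK : K' ≤ IsLocalRing.maximalIdeal (X.presheaf.stalk x) := IsLocalRing.le_maximalIdeal fun htop => by
      refine CurveCohLib.GlobGen.nontrivial_stalk_quotMod I hx ?_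
      refine ⟨fun a b => ?_⟩
      have hz : ∀ c : S.obj (ClSub.quotMod I), c = 0 := fun c => by
        obtain ⟨d, rfl⟩ := hsurj c
        have h2 : e ((S.map φ).hom d) ∈ K' := htop ▸ Submodule.mem_top
        have h3 : τ (e.symm (e ((S.map φ).hom d))) = 0 := h2
        rw [LinearEquiv.symm_apply_apply] at h3
        exact h3
      exact (hz a).trans (hz b).symm
    obtain ⟨d, hd⟩ := hsurj (τ (e.symm 1))
    have h2 : (1 : X.presheaf.stalk x) - e ((S.map φ).hom d) ∈ K' := by
      show τ (e.symm (1 - e ((S.map φ).hom d))) = 0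
      rw [map_sub, map_sub, LinearEquiv.symm_apply_apply, sub_eq_zero]
      exact hd.symm
    have h3 : (1 : X.presheaf.stalk x) ∈ IsLocalRing.maximalIdeal (X.presheaf.stalk x) := by
      have := Ideal.add_mem _ (hK h2) (h1 ⟨d, rfl⟩)
      exact (sub_add_cancel (1 : X.presheaf.stalk x) (e ((S.map φ).hom d))) ▸ this
    exact (IsLocalRing.maximalIdeal.isMaximal _).ne_top ((Ideal.eq_top_iff_one _).2 h3)
  have h : Function.Surjective (e ∘ (S.map φ).hom) := LinearMap.range_eq_top.1 hR
  exact (Function.Surjective.of_comp_iff' e.bijective _).1 h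

/-- A section generating near `V(J)` has formal inverses. -/
theorem exists_formal_inverse {T : Scheme.{u}} (J : T.IdealSheafData) {D' : T.Modules}
    (t : Coh.structureModule T ⟶ D') (V : T.Opens) (hV : (J.support : Set T) ⊆ (V : Set T))
    [IsIso ((Scheme.Modules.pullback V.ι).map t)] :
    ∃ y : ∀ n, D' ⟶ ClSub.quotMod (J ^ (n + 1)), Lef.IsFormalHom J D' y ∧
      ∀ n, t ≫ y n = ClSub.toSubscheme (J ^ (n + 1)) := by
  haveI := fun k => LefAmple.isIso_kk J V hV k
  let adj := Scheme.Modules.pullbackPushforwardAdjunction V.ι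
  have huniq : ∀ n (a b : D' ⟶ ClSub.quotMod (J ^ (n + 1))), t ≫ a = t ≫ b → a = b := fun n a b h => by
    rw [← cancel_mono (LefAmple.kk J V n)]
    apply (adj.homEquiv _ _).symm.injective
    rw [← cancel_epi ((Scheme.Modules.pullback V.ι).map t), ← Adjunction.homEquiv_naturality_left_symm,
      ← Adjunction.homEquiv_naturality_left_symm, ← Category.assoc, ← Category.assoc, h]
  let y : ∀ n, D' ⟶ ClSub.quotMod (J ^ (n + 1)) := fun n =>
    adj.homEquiv _ _ (inv ((Scheme.Modules.pullback V.ι).map t) ≫ (LefFEt.uIso V.ι).hom ≫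
      ClSub.toSubscheme ((J.comap V.ι) ^ (n + 1))) ≫ inv (LefAmple.kk J V n)
  have hty : ∀ n, t ≫ y n = ClSub.toSubscheme (J ^ (n + 1)) := fun n => by
    simp only [y]
    rw [← Category.assoc, ← Adjunction.homEquiv_naturality_left, IsIso.hom_inv_id_assoc,
      Adjunction.homEquiv_naturality_right, IsIso.comp_inv_eq, LefAmple.toSub_kk]
    exact congrArg (· ≫ _) (LefFEt.homEquiv_pullUnit V.ι)
  exact ⟨y, fun n => huniq n _ _ (by rw [← Category.assoc, hty, hty, LefFEt.toSub_quotMap]), hty⟩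

/-- An invertible module with a formal generator is trivial under the Lefschetz condition. -/
theorem nonempty_iso_of_formalGen {𝓘 : X.IdealSheafData} (h : Lef.LefCond X 𝓘) (U : X.Opens)
    (hU : (𝓘.support : Set X) ⊆ (U : Set X)) {D : (U : Scheme.{u}).Modules} (hD : PicF.IsInvertible D)
    (z : ∀ n, D ⟶ ClSub.quotMod ((𝓘.comap U.ι) ^ (n + 1))) (hz : Lef.IsFormalHom (𝓘.comap U.ι) D z)
    [Epi (z 0)] : Nonempty (D ≅ Coh.structureModule (U : Scheme.{u})) := by
  letI := PicMul.clMonoid (U : Scheme.{u})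
  obtain ⟨φ, hφ⟩ := (h U hU D (AVKLExist.isFinLocFree_of_isInvertible hD)).2 z hz
  obtain ⟨D', hD', ⟨w0⟩⟩ := PicInv.exists_inverse hD
  have hcl : PicF.cl D * PicF.cl D' = 1 :=
    (PicMul.cl_tensor _ _).symm.trans ((PicMul.cl_eq_iff.2 ⟨w0⟩).trans PicMul.one_def.symm)
  obtain ⟨w⟩ : Nonempty ((DCoh.tensorBi.obj D').obj D ≅ Coh.structureModule (U : Scheme.{u})) :=
    PicMul.cl_eq_iff.1 (by
      show PicF.cl (CohB1.tensorMod D' D) = _
      rw [PicMul.cl_tensor, mul_comm, hcl]
      exact PicMul.one_def)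
  let ru : (DCoh.tensorBi.obj D').obj (Coh.structureModule (U : Scheme.{u})) ≅ D' := KFlatLib.tensorUnitIso D'
  let t : Coh.structureModule (U : Scheme.{u}) ⟶ D' :=
    w.inv ≫ (DCoh.tensorBi.obj D').map φ ≫ ru.hom
  haveI : Epi (φ ≫ ClSub.toSubscheme ((𝓘.comap U.ι) ^ (0 + 1))) := by rw [hφ 0]; infer_instance
  have hV : ((𝓘.comap U.ι).support : Set U.toScheme) ⊆ (CohB1.genLocus D' t : Set U.toScheme) := fun x hx => by
    refine mem_genLocus_of_surjective hD' t ?_
    have hxs : x ∈ ((𝓘.comap U.ι) ^ (0 + 1)).support := by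
      show x ∈ (((𝓘.comap U.ι) ^ (0 + 1)).support : Set U.toScheme)
      rw [Scheme.IdealSheafData.support_pow_succ]; exact hx
    have h1 := stalk_surjective_of_epi_comp _ φ hxs
    obtain ⟨e⟩ := InvStalk.exists_stalk_equiv hD' x
    have h2 := (InvStalk.stalk_tensor_map_surjective_iff φ x e).2 h1
    simp only [t, Functor.map_comp]
    exact (ConcreteCategory.bijective_of_isIso ((DerSch.stalkFunctor _ x).map ru.hom)).2.comp
      (h2.comp (ConcreteCategory.bijective_of_isIso ((DerSch.stalkFunctor _ x).map w.inv)).2)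
  let V := CohB1.genLocus D' t
  haveI : IsIso ((Scheme.Modules.restrictFunctor V.ι).map t) :=
    (InvX.isIso_restrict_iff t _).2 (AmpleX.res_genLocus_frame t)
  haveI : IsIso ((Scheme.Modules.pullback V.ι).map t) :=
    (NatIso.isIso_map_iff (Scheme.Modules.restrictFunctorIsoPullback V.ι) t).1 inferInstance
  obtain ⟨y, hy, hty⟩ := exists_formal_inverse (𝓘.comap U.ι) t V hV
  obtain ⟨ψ, hψ⟩ := (h U hU D' (AVKLExist.isFinLocFree_of_isInvertible hD')).2 y hy
  have h1 : t ≫ ψ = 𝟙 _ := (h U hU (Coh.structureModule (U : Scheme.{u}))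
    (AVKLExist.isFinLocFree_of_isInvertible InvStalk.isInvertible_structureModule)).1 _ _ fun n => by
      rw [Category.assoc, hψ n, hty n, Category.id_comp]
  haveI : Epi ψ := epi_of_epi_fac h1
  haveI : IsIso ψ := SeesawX.isIso_of_epi_rank (SeesawX.isFinLocFreeOfRank_one hD')
    (SeesawX.isFinLocFreeOfRank_one InvStalk.isInvertible_structureModule) ψ
  refine PicMul.cl_eq_iff.1 ?_
  have hD'1 : PicF.cl D' = 1 := (PicMul.cl_eq_iff.2 ⟨asIso ψ⟩).trans PicMul.one_def.symm
  rw [hD'1, mul_one] at hcl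
  exact hcl.trans PicMul.one_def

/-- Invertible modules on `U` isomorphic on one thickening are isomorphic. -/
theorem nonempty_iso_of_restrict {𝓘 : X.IdealSheafData} (h : Lef.LefCond X 𝓘) (p : ℕ)
    (hH1 : ∀ n : ℕ, p ≤ n → Subsingleton (Coh.HH X (kernel (Lef.quotMap (Lef.pow_succ_le 𝓘 n))) 1))
    (U : X.Opens) (hU : (𝓘.support : Set X) ⊆ (U : Set X)) (n : ℕ) (hn : p ≤ n)
    {L L' : (U : Scheme.{u}).Modules} (hL : PicF.IsInvertible L) (hL' : PicF.IsInvertible L')
    (e : Nonempty ((Scheme.Modules.pullback (((𝓘.comap U.ι) ^ (n + 1)).subschemeι)).obj L ≅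
      (Scheme.Modules.pullback (((𝓘.comap U.ι) ^ (n + 1)).subschemeι)).obj L')) : Nonempty (L ≅ L') := by
  letI := PicMul.clMonoid (U : Scheme.{u})
  obtain ⟨M', hM', ⟨e0⟩⟩ := PicInv.exists_inverse hL'
  have hMM : PicF.cl L' * PicF.cl M' = 1 :=
    (PicMul.cl_tensor _ _).symm.trans ((PicMul.cl_eq_iff.2 ⟨e0⟩).trans PicMul.one_def.symm)
  have hD : PicF.IsInvertible (CohB1.tensorMod L M') := PicMul.isInvertible_tensor hL hM'
  obtain ⟨e1⟩ : Nonempty ((Scheme.Modules.pullback (((𝓘.comap U.ι) ^ (n + 1)).subschemeι)).obj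
      (CohB1.tensorMod L M') ≅ Coh.structureModule _) := by
    refine PicMul.cl_eq_iff.1 ?_
    show PicF.pullCl _ (PicF.cl (CohB1.tensorMod L M')) = _
    rw [PicMul.cl_tensor, PicMul.pullCl_mul,
      show PicF.pullCl _ (PicF.cl L) = PicF.pullCl _ (PicF.cl L') from PicMul.cl_eq_iff.2 e,
      ← PicMul.pullCl_mul, hMM]
    exact PicMul.pullCl_one _
  obtain ⟨z, hz, hz0⟩ := exists_formalGen 𝓘 U hU p hH1 hD (pullback_trivial_all 𝓘 U hU p hH1 hD n hn e1)
  obtain ⟨e2⟩ := @nonempty_iso_of_formalGen _ _ h U hU _ hD z hz hz0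
  refine PicMul.cl_eq_iff.1 ?_
  have h1 : PicF.cl L * PicF.cl M' = 1 :=
    (PicMul.cl_tensor _ _).symm.trans ((PicMul.cl_eq_iff.2 ⟨e2⟩).trans PicMul.one_def.symm)
  calc PicF.cl L = PicF.cl L * (PicF.cl L' * PicF.cl M') := by rw [hMM, mul_one]
    _ = (PicF.cl L * PicF.cl M') * PicF.cl L' := by ac_rfl
    _ = PicF.cl L' := by rw [h1, one_mul]

end Groth.Agent.H26.LefPic
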