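import Groth.Agent.PicLift.Flat
import Groth.Agent.H26.LefAmple.OpenQuot
import Groth.Agent.H26.LefAmple.Global
import Groth.Agent.FComplLib.IdealComap
import Groth.Prelude.Def_Lef

/-!
# Invertible modules on the thickenings `V(I^(n+1))` when `H¹(I^(n+1)/I^(n+2)) = 0`
-/

noncomputable section

set_option autoImplicit false
set_option linter.style.haveILetI false
set_option backward.isDefEq.respectTransparency false
set_option backward.isDefEq.respectTransparency.types false

universe u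

open CategoryTheory CategoryTheory.Limits AlgebraicGeometry TopologicalSpace Opposite
open Groth.Agent.H23

namespace Groth.Agent.H26.LefPic

open Groth.Agent

variable {X Z : Scheme.{u}}

/-- The ideal of a closed immersion is the kernel of `O → t_*O`. -/
theorem nonempty_idealMod_iso_kernel (t : Z ⟶ X) [IsClosedImmersion t] :
    Nonempty (ClSub.idealMod t.ker ≅ kernel (ClSub.unitToPush t)) := by
  have h1 : ClSub.idealModι t.ker ≫ ClSub.unitToPush t = 0 := QCoh.hom_ext_app fun W s =>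
    (PicLift.ker_app_iff t _).1 (OmegaLib.subschemeι_app_idealSect t.ker W s)
  have h2 : kernel.ι (ClSub.unitToPush t) ≫ ClSub.toSubscheme t.ker = 0 := QCoh.hom_ext_app fun W s =>
    (PicLift.ker_app_iff t _).2 (congrArg (fun φ : kernel (ClSub.unitToPush t) ⟶ _ => φ.app W s)
      (kernel.condition (ClSub.unitToPush t)))
  let a : ClSub.idealMod t.ker ⟶ kernel (ClSub.unitToPush t) := kernel.lift _ _ h1
  let b : kernel (ClSub.unitToPush t) ⟶ ClSub.idealMod t.ker := kernel.lift _ _ h2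
  have ha : a ≫ kernel.ι (ClSub.unitToPush t) = ClSub.idealModι t.ker := kernel.lift_ι _ _ _
  have hb : b ≫ ClSub.idealModι t.ker = kernel.ι (ClSub.unitToPush t) := kernel.lift_ι _ _ _
  haveI : Mono (ClSub.idealModι t.ker) := inferInstanceAs (Mono (kernel.ι _))
  exact ⟨⟨a, b, by rw [← cancel_mono (ClSub.idealModι t.ker), Category.assoc, hb, ha, Category.id_comp],
    by rw [← cancel_mono (kernel.ι (ClSub.unitToPush t)), Category.assoc, ha, hb, Category.id_comp]⟩⟩

/-- `H¹` of the kernel of a quotient map is `H¹` of the ideal of the inclusion. -/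
theorem subsingleton_HH_idealMod {I J : X.IdealSheafData} (h : I ≤ J) (q : ℕ)
    (h1 : Subsingleton (Coh.HH X (kernel (Lef.quotMap h)) q)) :
    Subsingleton (Coh.HH I.subscheme (ClSub.idealMod (Scheme.IdealSheafData.inclusion h).ker) q) := by
  obtain ⟨e⟩ := nonempty_idealMod_iso_kernel (Scheme.IdealSheafData.inclusion h)
  let P := Scheme.Modules.pushforward I.subschemeι
  haveI : P.IsRightAdjoint := ⟨_, ⟨Scheme.Modules.pullbackPushforwardAdjunction I.subschemeι⟩⟩
  let u := P.map (ClSub.unitToPush (Scheme.IdealSheafData.inclusion h))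
  let w := (Scheme.Modules.pushforwardComp (Scheme.IdealSheafData.inclusion h) I.subschemeι).hom.app
      (Coh.structureModule J.subscheme) ≫
    (Scheme.Modules.pushforwardCongr (Scheme.IdealSheafData.inclusion_subschemeι h)).hom.app _
  let e2 : P.obj (ClSub.idealMod (Scheme.IdealSheafData.inclusion h).ker) ≅ kernel (Lef.quotMap h) :=
    P.mapIso e ≪≫ PreservesKernel.iso P _ ≪≫ (kernelCompMono u w).symm
  obtain ⟨eq⟩ := QCoh.HH_push_of_isAffineHom I.subschemeι
    (PPSheaf.isQCoh_idealMod (Scheme.IdealSheafData.inclusion h).ker) q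
  have h2 : Subsingleton (Coh.HH X (P.obj (ClSub.idealMod (Scheme.IdealSheafData.inclusion h).ker)) q) :=
    QCoh.subsingleton_HH_of_iso e2.symm q h1
  exact eq.toEquiv.subsingleton

theorem ker_sq_pow (𝓘 : X.IdealSheafData) (m : ℕ) :
    (Scheme.IdealSheafData.inclusion (Lef.pow_succ_le 𝓘 m)).ker *
      (Scheme.IdealSheafData.inclusion (Lef.pow_succ_le 𝓘 m)).ker = ⊥ := by
  rw [FComplLib.ker_inclusion, ← FComplLib.comap_mul, eq_bot_iff, ← pow_add]
  have h : ∀ d, 𝓘 ^ (m + 2 + d) ≤ 𝓘 ^ (m + 2) := fun d => by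
    rw [pow_add]; exact mul_le_of_le_one_right' le_top
  refine le_trans ((Scheme.IdealSheafData.map_gc _).monotone_l
    ((le_of_eq (by ring_nf)).trans (h m))) (le_of_eq ?_)
  exact (congrArg (Scheme.IdealSheafData.comap · _) (Scheme.IdealSheafData.ker_subschemeι _).symm).trans
    (FComplLib.ker_self_comap _)

variable (𝓘 : X.IdealSheafData) (U : X.Opens)

/-- `V(J^(n+1)) → V(I^(n+1))` for `J = I|U`. -/
def gMap (n : ℕ) : ((𝓘.comap U.ι) ^ (n + 1)).subscheme ⟶ (𝓘 ^ (n + 1)).subscheme :=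
  Scheme.IdealSheafData.inclusion (FComplLib.comap_pow U.ι 𝓘 (n + 1)).le ≫ LefFEt.subMap U.ι (𝓘 ^ (n + 1))

theorem gMap_subschemeι (n : ℕ) : gMap 𝓘 U n ≫ (𝓘 ^ (n + 1)).subschemeι =
    ((𝓘.comap U.ι) ^ (n + 1)).subschemeι ≫ U.ι := by
  rw [gMap, Category.assoc, (LefFEt.isPullback_subMap U.ι (𝓘 ^ (n + 1))).w, ← Category.assoc,
    Scheme.IdealSheafData.inclusion_subschemeι]

theorem isIso_inclusion_of_eq {T : Scheme.{u}} {I J : T.IdealSheafData} (h : I = J) :
    IsIso (Scheme.IdealSheafData.inclusion h.le) := by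
  refine ⟨Scheme.IdealSheafData.inclusion h.ge, ?_, ?_⟩
  · rw [← cancel_mono J.subschemeι, Category.assoc, Category.id_comp, Scheme.IdealSheafData.inclusion_subschemeι,
      Scheme.IdealSheafData.inclusion_subschemeι]
  · rw [← cancel_mono I.subschemeι, Category.assoc, Category.id_comp, Scheme.IdealSheafData.inclusion_subschemeι,
      Scheme.IdealSheafData.inclusion_subschemeι]

theorem isIso_gMap (hU : (𝓘.support : Set X) ⊆ (U : Set X)) (n : ℕ) : IsIso (gMap 𝓘 U n) := by
  let I := 𝓘 ^ (n + 1)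
  haveI : IsOpenImmersion (LefFEt.subMap U.ι I) :=
    MorphismProperty.of_isPullback (LefFEt.isPullback_subMap U.ι I).flip (inferInstanceAs (IsOpenImmersion U.ι))
  haveI : Surjective (LefFEt.subMap U.ι I) := by
    refine ⟨fun q => ?_⟩
    have hq : I.subschemeι q ∈ (U : Set X) := hU (by
      have : I.subschemeι q ∈ (I.support : Set X) := by
        rw [← Scheme.IdealSheafData.range_subschemeι]; exact ⟨q, rfl⟩
      rwa [Scheme.IdealSheafData.support_pow_succ] at this)
    obtain ⟨p, hp, -⟩ := Scheme.Pullback.exists_preimage_pullback (f := I.subschemeι) (g := U.ι) q (⟨_, hq⟩ : U.toScheme) rfl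
    refine ⟨(LefFEt.isPullback_subMap U.ι I).isoPullback.inv p, ?_⟩
    rw [← Scheme.Hom.comp_apply, IsPullback.isoPullback_inv_fst]
    exact hp
  haveI : IsIso (LefFEt.subMap U.ι I) := (isIso_iff_isOpenImmersion_and_surjective _).2 ⟨inferInstance, inferInstance⟩
  haveI := isIso_inclusion_of_eq (FComplLib.comap_pow U.ι 𝓘 (n + 1))
  exact inferInstanceAs (IsIso (_ ≫ _))

/-- Triviality on one thickening propagates to all of them. -/
theorem pullback_trivial_all (hU : (𝓘.support : Set X) ⊆ (U : Set X)) (p : ℕ)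
    (hH1 : ∀ n : ℕ, p ≤ n → Subsingleton (Coh.HH X (kernel (Lef.quotMap (Lef.pow_succ_le 𝓘 n))) 1))
    {D : (U : Scheme.{u}).Modules} (hD : PicF.IsInvertible D) (n : ℕ) (hn : p ≤ n)
    (e : (Scheme.Modules.pullback ((𝓘.comap U.ι) ^ (n + 1)).subschemeι).obj D ≅ Coh.structureModule _) (m : ℕ) :
    Nonempty ((Scheme.Modules.pullback ((𝓘.comap U.ι) ^ (m + 1)).subschemeι).obj D ≅ Coh.structureModule _) := by
  haveI := fun k => isIso_gMap 𝓘 U hU k
  let j : ∀ k, (𝓘 ^ (k + 1)).subscheme ⟶ (U : Scheme.{u}) := fun k =>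
    inv (gMap 𝓘 U k) ≫ ((𝓘.comap U.ι) ^ (k + 1)).subschemeι
  have hj : ∀ k, j k ≫ U.ι = (𝓘 ^ (k + 1)).subschemeι := fun k => by
    simp only [j, Category.assoc]
    rw [IsIso.inv_comp_eq, gMap_subschemeι]
  have hjt : ∀ k, Scheme.IdealSheafData.inclusion (Lef.pow_succ_le 𝓘 k) ≫ j (k + 1) = j k := fun k => by
    rw [← cancel_mono U.ι, Category.assoc, hj (k + 1), hj k]
    exact Scheme.IdealSheafData.inclusion_subschemeι _
  letI := fun k : ℕ => PicMul.clMonoid (𝓘 ^ (k + 1)).subscheme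
  let c : ∀ k, PicF.Cl (𝓘 ^ (k + 1)).subscheme := fun k => PicF.pullCl (j k) (PicF.cl D)
  have hc : ∀ k, PicF.IsInvertibleCl (c k) := fun k => ⟨_, rfl, PicClLib.isInvertible_pullback (j k) hD⟩
  have hdown : ∀ k, PicF.pullCl (Scheme.IdealSheafData.inclusion (Lef.pow_succ_le 𝓘 k)) (c (k + 1)) = c k :=
    fun k => (PicClLib.pullCl_comp _ _ _).trans (by rw [hjt k])
  have hcn : c n = 1 := by
    have h1 : PicF.pullCl ((𝓘.comap U.ι) ^ (n + 1)).subschemeι (PicF.cl D) = PicF.cl (Coh.structureModule _) :=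
      PicMul.cl_eq_iff.2 ⟨e⟩
    show PicF.pullCl (inv (gMap 𝓘 U n) ≫ _) _ = _
    rw [← PicClLib.pullCl_comp, h1]
    exact PicMul.pullCl_one _
  have hup : ∀ d, c (n + d) = 1 := by
    intro d
    induction d with
    | zero => exact hcn
    | succ d ih =>
      haveI : IsClosedImmersion (Scheme.IdealSheafData.inclusion (Lef.pow_succ_le 𝓘 (n + d))) := inferInstance
      refine PicLift.pullCl_injective _ (ker_sq_pow 𝓘 (n + d))
        (subsingleton_HH_idealMod _ 1 (hH1 (n + d) (by omega))) (hc _)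
        ⟨_, rfl, InvStalk.isInvertible_structureModule⟩ ?_
      exact (hdown (n + d)).trans (ih.trans (PicMul.pullCl_one _).symm)
  have hall : ∀ d k, c (k + d) = 1 → c k = 1 := by
    intro d
    induction d with
    | zero => exact fun k h => h
    | succ d ih =>
      exact fun k h => ih k ((hdown (k + d)).symm.trans ((congrArg _ h).trans (PicMul.pullCl_one _)))
  have hm : c m = 1 := hall n m (Nat.add_comm n m ▸ hup m)
  refine PicMul.cl_eq_iff.1 ?_
  have hg : gMap 𝓘 U m ≫ j m = ((𝓘.comap U.ι) ^ (m + 1)).subschemeι := IsIso.hom_inv_id_assoc _ _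
  show PicF.pullCl ((𝓘.comap U.ι) ^ (m + 1)).subschemeι (PicF.cl D) = _
  rw [← hg, ← PicClLib.pullCl_comp, show PicF.pullCl (j m) (PicF.cl D) = 1 from hm]
  letI := PicMul.clMonoid ((𝓘.comap U.ι) ^ (m + 1)).subscheme
  exact (PicMul.pullCl_one _).trans PicMul.one_def

end Groth.Agent.H26.LefPic
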